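import Groth.Prelude.Def_GrassD
import Groth.Agent.Lib.OX.OneDegLocus
import Groth.Agent.S18995

/-!
# Base change of quotient maps

Functoriality of `Grass.quotBC` in the morphism and in the quotient.
-/

set_option autoImplicit false
set_option backward.isDefEq.respectTransparency false
set_option linter.style.haveILetI false

universe u

open CategoryTheory CategoryTheory.Limits AlgebraicGeometry

noncomputable section

namespace GrothLib.GrassCat26

variable {X G T T' : Scheme.{u}} {π : G ⟶ X} {E : X.Modules} {Q Q₁ : G.Modules}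

theorem quotBC_whisker {h : T ⟶ G} {g : T ⟶ X} (hg : h ≫ π = g)
    (q : (Scheme.Modules.pullback π).obj E ⟶ Q) (k : Q ⟶ Q₁) :
    Grass.quotBC hg (q ≫ k) = Grass.quotBC hg q ≫ (Scheme.Modules.pullback h).map k := by
  simp [Grass.quotBC]

theorem quotBC_congr {h h' : T ⟶ G} (e : h = h') {g : T ⟶ X} (hg : h ≫ π = g) (hg' : h' ≫ π = g)
    (q : (Scheme.Modules.pullback π).obj E ⟶ Q) :
    Grass.quotBC hg q ≫ (Scheme.Modules.pullbackCongr e).hom.app Q = Grass.quotBC hg' q := by
  subst e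
  simp [Scheme.Modules.pullbackCongr]

theorem quotBC_eq_congr_inv {h h' : T ⟶ G} (e : h = h') {g : T ⟶ X} (hg : h ≫ π = g) (hg' : h' ≫ π = g)
    (q : (Scheme.Modules.pullback π).obj E ⟶ Q) :
    Grass.quotBC hg q = Grass.quotBC hg' q ≫ (Scheme.Modules.pullbackCongr e).inv.app Q := by
  rw [← quotBC_congr e hg hg', Category.assoc, ← NatTrans.comp_app, Iso.hom_inv_id, NatTrans.id_app,
    Category.comp_id]

theorem quotBC_comp (q : (Scheme.Modules.pullback π).obj E ⟶ Q) (r : T ⟶ G) (r' : T' ⟶ T)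
    {g : T ⟶ X} {g' : T' ⟶ X} (hr : r ≫ π = g) (hr' : r' ≫ g = g') (hrr : (r' ≫ r) ≫ π = g') :
    Grass.quotBC hrr q ≫ (Scheme.Modules.pullbackComp r' r).inv.app Q =
      Grass.quotBC hr' (Grass.quotBC hr q) := by
  have hc := GrothAux.S18995.coh r' r π hr hr' hrr E
  simp only [Grass.quotBC, Category.assoc, Functor.map_comp]
  erw [(Scheme.Modules.pullbackComp r' r).inv.naturality q]
  rw [← reassoc_of% hc]
  simp only [Functor.comp_map, ← Functor.map_comp_assoc, Category.assoc]
  simp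

theorem epi_quotBC {h : T ⟶ G} {g : T ⟶ X} (hg : h ≫ π = g)
    (q : (Scheme.Modules.pullback π).obj E ⟶ Q) [Epi q] : Epi (Grass.quotBC hg q) := by
  haveI := Grass.epi_pullback_map h q
  exact epi_comp' inferInstance (epi_comp' inferInstance inferInstance)

theorem isFinLocFreeOfRank_of_iso {Y : Scheme.{u}} {M N : Y.Modules} {r : ℕ} (e : M ≅ N)
    (h : FlatMod.IsFinLocFreeOfRank r M) : FlatMod.IsFinLocFreeOfRank r N := fun x => by
  obtain ⟨U, hx, ⟨φ⟩⟩ := h x
  exact ⟨U, hx, ⟨((Scheme.Modules.restrictFunctor U.ι).mapIso e).symm ≪≫ φ⟩⟩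

end GrothLib.GrassCat26
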